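/-
P24: consequences of the solvability of groups with a fixed point free nilpotent group of
automorphisms.  Interface.
-/
import Cfsg.Agent.H1.Semidirect

set_option autoImplicit false

namespace Cfsg.Agent.P24

universe u

/-- A group with a fixed point free nilpotent group of automorphisms is solvable. -/
def FpfStmt : Prop := ∀ (G : Type u) [Group G] [Finite G] (B : Subgroup (MulAut G)),
  Group.IsNilpotent B → (∀ g : G, (∀ b ∈ B, b g = g) → g = 1) → Group.IsSolvable G

theorem FpfStmt.solv (h : FpfStmt.{u}) {G : Type u} {A : Type*} [Group G] [Finite G] [Group A]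
    (φ : A →* MulAut G) {F : Subgroup A} (hF : Group.IsNilpotent F)
    (h1 : ∀ g : G, (∀ f ∈ F, φ f g = g) → g = 1) : Group.IsSolvable G :=
  h G (F.map φ) (nilpotent_of_surjective (φ.subgroupMap F) (φ.subgroupMap_surjective F))
    fun g hg => h1 g fun f hf => hg _ ⟨f, hf, rfl⟩

end Cfsg.Agent.P24
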