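/-
P24: Frobenius groups of automorphisms with fixed point free kernel, module facts.
-/
import Cfsg.Agent.P11.Main
import Cfsg.Agent.H1.RepFree

set_option autoImplicit false
set_option linter.style.haveILetI false

open Subgroup Module
open scoped commutatorElement

namespace Cfsg.Agent.P24

open P11 H1

variable {A V : Type*} [Group A] [CommGroup V]

theorem exists_theta [Finite A] (α : A →* MulAut V) {F H : Subgroup A} [Fintype H] (h : SR F H)
    (h1 : ∀ w, (∀ b ∈ F, α b w = w) → w = 1) :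
    ∃ θ : V →* V, ∀ v, ∏ b : H, α b (θ (α (b : A)⁻¹ v)) = v := by
  classical
  letI := Fintype.ofFinite F
  let φ : H →* MulAut F :=
    { toFun := fun x =>
        { toFun := fun f => ⟨x * f * (x : A)⁻¹, h.conj x x.2 f f.2⟩
          invFun := fun f => ⟨(x : A)⁻¹ * f * (x : A)⁻¹⁻¹, h.conj _ (H.inv_mem x.2) f f.2⟩
          left_inv := fun f => by ext; simp [mul_assoc]
          right_inv := fun f => by ext; simp [mul_assoc]
          map_mul' := fun f g => by ext; simp [mul_assoc] }
      map_one' := by ext; simp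
      map_mul' := fun x y => by ext; simp [mul_assoc] }
  letI : MulAction H F := MulAction.compHom F φ
  have hsm : ∀ (x : H) (f : F), ((x • f : F) : A) = x * f * (x : A)⁻¹ := fun _ _ => rfl
  let R : Finset F := Finset.univ.filter fun f =>
    f ≠ 1 ∧ (Quotient.mk (MulAction.orbitRel H F) f).out = f
  let θ : V →* V :=
    { toFun := fun v => (∏ f ∈ R, α f v)⁻¹
      map_one' := by simp
      map_mul' := fun v w => by simp [Finset.prod_mul_distrib, mul_comm] }
  refine ⟨θ, fun v => ?_⟩
  have e1 : ∏ b : H, α b (θ (α (b : A)⁻¹ v)) =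
      (∏ p ∈ (Finset.univ : Finset H) ×ˢ R, α ((p.1 • p.2 : F) : A) v)⁻¹ := by
    rw [Finset.prod_product, ← Finset.prod_inv_distrib]
    refine Finset.prod_congr rfl fun b _ => ?_
    simp [θ, hsm]
  have e2 : ∏ p ∈ (Finset.univ : Finset H) ×ˢ R, α ((p.1 • p.2 : F) : A) v =
      ∏ f ∈ Finset.univ.erase (1 : F), α (f : A) v := by
    refine Finset.prod_bij (fun p _ => p.1 • p.2) ?_ ?_ ?_ fun _ _ => rfl
    · intro p hp
      simp only [Finset.mem_product, Finset.mem_univ, true_and, R, Finset.mem_filter] at hp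
      simp only [Finset.mem_erase, Finset.mem_univ, and_true]
      intro e
      apply hp.1
      have := congrArg Subtype.val e
      rw [hsm] at this
      ext
      simpa [mul_inv_eq_one] using this
    · intro p hp q hq e
      simp only [Finset.mem_product, Finset.mem_univ, true_and, R, Finset.mem_filter] at hp hq
      have e3 : p.2 = q.2 := by
        rw [← hp.2, ← hq.2]
        congr 1
        apply Quotient.sound
        exact ⟨p.1⁻¹ * q.1, by simp [mul_smul, ← e]⟩
      have e4 : p.1 = q.1 := by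
        by_contra hne
        apply hp.1
        have := congrArg Subtype.val e
        rw [hsm, hsm, ← e3] at this
        ext
        refine h.fpf ((q.1 : A)⁻¹ * p.1) (H.mul_mem (H.inv_mem q.1.2) p.1.2)
          (fun e5 => hne (Subtype.ext (inv_mul_eq_one.mp e5).symm)) _ p.2.2 ?_
        calc (q.1 : A)⁻¹ * p.1 * p.2 = (q.1 : A)⁻¹ * (p.1 * p.2 * (p.1 : A)⁻¹) * p.1 := by group
          _ = p.2 * ((q.1 : A)⁻¹ * p.1) := by rw [this]; group
      exact Prod.ext e4 e3
    · intro f hf
      simp only [Finset.mem_erase, Finset.mem_univ, and_true] at hf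
      obtain ⟨x, hx⟩ : (MulAction.orbitRel H F) f (Quotient.mk (MulAction.orbitRel H F) f).out :=
        Quotient.exact (Quotient.out_eq _).symm
      refine ⟨(x, (Quotient.mk (MulAction.orbitRel H F) f).out), ?_, hx⟩
      simp only [Finset.mem_product, Finset.mem_univ, true_and, R, Finset.mem_filter,
        Quotient.out_eq, and_true]
      intro e
      apply hf
      rw [← hx, e]
      ext
      simp [hsm]
  have e3 := nm_eq_one α (W := ⊤) (B := F) (fun _ _ _ _ => trivial) (fun w _ => h1 w)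
    (mem_top v)
  rw [nm_eq, ← Finset.mul_prod_erase _ _ (Finset.mem_univ (1 : F))] at e3
  rw [e1, e2, eq_comm, eq_inv_iff_mul_eq_one]
  simpa using e3

theorem fix_eq_range [Finite A] (α : A →* MulAut V) {F H : Subgroup A} (h : SR F H)
    (h1 : ∀ w, (∀ b ∈ F, α b w = w) → w = 1) : fixedSub α H = (nm α H).range := by
  letI := Fintype.ofFinite H
  obtain ⟨θ, hθ⟩ := exists_theta α h h1
  ext v
  rw [mem_fixedSub]
  refine ⟨fun hv => ⟨θ v, ?_⟩, ?_⟩
  · rw [nm_eq]
    conv_rhs => rw [← hθ v]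
    exact Finset.prod_congr rfl fun b _ => by rw [hv _ (inv_mem b.2)]
  · rintro ⟨w, rfl⟩ b hb
    exact nm_fix α hb w

theorem SR.le_comm [Finite A] {F H Z : Subgroup A} (h : SR F H) (hZ : Z ≤ F) [Z.Normal] {r : A}
    (hr : r ∈ H) (r1 : r ≠ 1) : Z ≤ ⁅Z, zpowers r⁆ := by
  let g : Z → Z := fun z => ⟨z * (r * (z : A)⁻¹ * r⁻¹),
    mul_mem z.2 (Normal.conj_mem inferInstance _ (inv_mem z.2) r)⟩
  have hg : Function.Injective g := by
    intro f f' e
    have e' : (f : A) * (r * (f : A)⁻¹ * r⁻¹) = f' * (r * (f' : A)⁻¹ * r⁻¹) :=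
      congrArg Subtype.val e
    have := h.fpf r hr r1 ((f' : A)⁻¹ * f) (hZ (mul_mem (inv_mem f'.2) f.2)) (by
      calc r * ((f' : A)⁻¹ * f) = (f' : A)⁻¹ * (f' * (r * (f' : A)⁻¹ * r⁻¹)) * r * f := by group
        _ = (f' : A)⁻¹ * f * r := by rw [← e']; group)
    rw [inv_mul_eq_one] at this
    exact Subtype.ext this.symm
  intro z hz
  obtain ⟨w, hw⟩ := Finite.surjective_of_injective hg ⟨z, hz⟩
  have e : (w : A) * (r * (w : A)⁻¹ * r⁻¹) = z := congrArg Subtype.val hw
  rw [← e, ← mul_assoc, ← mul_assoc]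
  exact commutator_mem_commutator w.2 (mem_zpowers r)

/-- The order formula when an abelian normal `p'`-subgroup acts fixed point freely. -/
theorem card_free [Finite A] [Finite V] (α : A →* MulAut V) {p : ℕ} (hp : p.Prime)
    (hE : ∀ v : V, v ^ p = 1) {Z H : Subgroup A} [Z.Normal] (h : SR Z H)
    (hc : ∀ a ∈ Z, ∀ b ∈ Z, α ⁅a, b⁆ = 1) (hZ : (Nat.card Z).Coprime p)
    (h1 : ∀ w, (∀ b ∈ Z, α b w = w) → w = 1) :
    Nat.card V = Nat.card (fixedSub α H) ^ Nat.card H := by
  have := Fact.mk hp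
  letI := Fintype.ofFinite H
  have key := finrank_eq_of_free_wt (baseChangeRep (AlgebraicClosure (ZMod p)) (autRep hE α)) Z
    (fun a ha b hb => by
      have h1 : baseChangeRep (AlgebraicClosure (ZMod p)) (autRep hE α) ⁅a, b⁆ = 1 := by
        change End.baseChangeHom _ _ _ (autRep hE α ⁅a, b⁆) = 1
        rw [(autRep_eq_one_iff hE α _).2 (hc a ha b hb), map_one]
      change _ * _ = _ * _
      rw [← map_mul, ← map_mul, show a * b = ⁅a, b⁆ * (b * a) by simp [commutatorElement_def],
        map_mul, h1, one_mul])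
    (cast_ne_zero_of_coprime hp hZ) H (fun r hr hr1 => SR.le_comm h le_rfl hr hr1)
    (fun v hv => by
      have h2 := H9.baseChange_eq_zero_on_fix (AlgebraicClosure (ZMod p)) (autRep hE α) Z
        (cast_ne_zero_of_coprime hp hZ) 1 (fun w hw => ?_) v hv
      · rwa [map_one] at h2
      · obtain ⟨w, rfl⟩ := (eaOf hE).surjective w
        rw [h1 w fun b hb => (eaOf hE).injective (hw b hb)]; rfl)
  rw [H9.baseChange_sumRep, finrank_range_baseChange, Module.finrank_baseChange] at key
  have e : fixedSub α H = eaSubgroup hE (LinearMap.range (H9.sumRep (autRep hE α) H)) := by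
    rw [fix_eq_range α h h1]
    have e1 : ∀ w, H9.sumRep (autRep hE α) H (eaOf hE w) = eaOf hE (nm α H w) := fun w => by
      rw [H9.sumRep_eq, nm_eq, eaOf_prod, LinearMap.sum_apply]; rfl
    ext v
    rw [mem_eaSubgroup]
    constructor
    · rintro ⟨w, rfl⟩
      exact ⟨_, e1 w⟩
    · rintro ⟨w, hw⟩
      obtain ⟨w, rfl⟩ := (eaOf hE).surjective w
      exact ⟨w, (eaOf hE).injective ((e1 w).symm.trans hw)⟩
  rw [e, card_eaSubgroup, ← card_EA hE, Module.natCard_eq_pow_finrank (K := ZMod p), key, mul_comm,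
    pow_mul, ← Module.natCard_eq_pow_finrank (K := ZMod p)]

/-- The order formula for an irreducible module. -/
theorem card_irr [Finite A] [Finite V] (α : A →* MulAut V) {p : ℕ} (hp : p.Prime)
    (hE : ∀ v : V, v ^ p = 1) {F H : Subgroup A} [F.Normal] (hF : Group.IsNilpotent F) (h : SR F H)
    (h1 : ∀ w, (∀ b ∈ F, α b w = w) → w = 1)
    (irr : ∀ W : Subgroup V, P11.Inv α W → W = ⊥ ∨ W = ⊤) :
    Nat.card V = Nat.card (fixedSub α H) ^ Nat.card H := by
  have := Fact.mk hp
  obtain ⟨P, Q, -, hQn, -, hQF, hP, hQ, -, hPQ⟩ := exists_parts F hF p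
  have h2 := fix_part α (fun v => ⟨1, by simpa using hE v⟩) hP hPQ h1
  by_cases h0 : Q ≤ α.ker
  · have : ∀ v : V, v = 1 := fun v => h2 v fun f hf => by rw [MonoidHom.mem_ker.1 (h0 hf)]; rfl
    haveI : Subsingleton V := ⟨fun a b => (this a).trans (this b).symm⟩
    rw [Nat.card_of_subsingleton (1 : V), Nat.card_of_subsingleton (1 : fixedSub α H), one_pow]
  obtain ⟨Z, hle, hZ⟩ := Finite.exists_le_minimal
    (p := fun W : Subgroup A => W.Normal ∧ ¬ W ≤ α.ker) (a := Q) ⟨hQn, h0⟩
  haveI := hZ.prop.1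
  have lt : ⁅Z, Z⁆ < Z := commutator_lt_of_isSolvable
    (Group.isSolvable_of_isSolvable_injective (inclusion_injective (hle.trans hQF)))
    fun e => hZ.prop.2 (e ▸ bot_le)
  refine card_free α hp hE (h.mono (hle.trans hQF) le_rfl fun x _ f hf =>
    Normal.conj_mem inferInstance f hf x) (fun a ha b hb => ?_)
    (hQ.coprime_dvd_left (card_dvd_of_le hle)) fun w hw => ?_
  · have : ⁅Z, Z⁆ ≤ α.ker := by_contra fun k => lt.not_ge (hZ.le_of_le ⟨inferInstance, k⟩ lt.le)
    exact this (commutator_mem_commutator ha hb)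
  · rcases irr _ (inv_fixedSub α Z) with e | e
    · have : w ∈ fixedSub α Z := mem_fixedSub.2 hw
      rwa [e] at this
    · exact (hZ.prop.2 fun z hz => MulEquiv.ext fun v =>
        mem_fixedSub.1 (e.ge (mem_top v)) z hz).elim

end Cfsg.Agent.P24
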