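/-
P24: solvable groups with a fixed point free nilpotent group of automorphisms.
-/
import Cfsg.Agent.P24.Fr0
import Cfsg.Agent.P24.Defs
import Cfsg.Agent.H6.FixProd

set_option autoImplicit false
set_option linter.style.haveILetI false

open Subgroup
open scoped commutatorElement IsMulCommutative Pointwise

namespace Cfsg.Agent.P24

open P11 H1

universe u

variable {A G : Type*} [Group A] [Group G] {F H : Subgroup A} {φ : A →* MulAut G}

theorem inv_comm {V W : Subgroup G} (hV : P11.Inv φ V) (hW : P11.Inv φ W) : P11.Inv φ ⁅V, W⁆ :=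
  fun a _ hx => by
    have h : ⁅V, W⁆.map (φ a).toMonoidHom ≤ ⁅V, W⁆ := by
      rw [map_commutator]
      exact commutator_mono (map_le_iff_le_comap.2 (hV a)) (map_le_iff_le_comap.2 (hW a))
    exact h (mem_map_of_mem _ hx)

theorem exists_min [Finite G] {N : Subgroup G} [hn : N.Normal] (hN : P11.Inv φ N)
    (hs : Group.IsSolvable N) (h1 : N ≠ ⊥) : ∃ (V : Subgroup G) (p : ℕ), p.Prime ∧ V ≤ N ∧
      V.Normal ∧ P11.Inv φ V ∧ V ≠ ⊥ ∧ IsMulCommutative V ∧ (∀ v ∈ V, v ^ p = 1) ∧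
      ∀ W ≤ V, W.Normal → P11.Inv φ W → W ≠ ⊥ → W = V := by
  obtain ⟨V, hle, hV⟩ := Finite.exists_le_minimal
    (p := fun W : Subgroup G => W.Normal ∧ P11.Inv φ W ∧ W ≠ ⊥) (a := N) ⟨hn, hN, h1⟩
  obtain ⟨a, b, c⟩ := hV.prop
  have m : ∀ W ≤ V, W.Normal → P11.Inv φ W → W ≠ ⊥ → W = V :=
    fun W hW h1 h2 h3 => le_antisymm hW (hV.le_of_le ⟨h1, h2, h3⟩ hW)
  have lt : ⁅V, V⁆ < V := commutator_lt_of_isSolvable
    (Group.isSolvable_of_isSolvable_injective (inclusion_injective hle)) c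
  have e : ⁅V, V⁆ = ⊥ := by_contra fun k => lt.ne (m _ lt.le inferInstance (inv_comm b b) k)
  haveI hc : IsMulCommutative V :=
    le_centralizer_iff_isMulCommutative.1 (commutator_eq_bot_iff_le_centralizer.1 e)
  obtain ⟨p, hp, hd⟩ := Nat.exists_prime_and_dvd fun e => c (card_eq_one.mp e)
  haveI := Fact.mk hp
  have e2 := m _ (om_le V p) inferInstance (om_inv b p) (om_ne_bot inferInstance hd)
  exact ⟨V, p, hp, hle, a, b, c, hc, fun v hv => (e2.ge hv).2.2, m⟩

theorem pg_of_pow {V : Subgroup G} {p : ℕ} (h : ∀ v ∈ V, v ^ p = 1) : IsPGroup p V :=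
  fun x => ⟨1, Subtype.ext (by simpa using h x x.2)⟩

/-- Fixed point freeness passes to quotients. -/
theorem fxq [Finite A] [Finite G] [F.Normal] (hF : Group.IsNilpotent F) {N V : Subgroup G}
    (hVN : V ≤ N) (h1 : ∀ g ∈ N, (∀ f ∈ F, φ f g = g) → g = 1) [IsMulCommutative V]
    (hV : P11.Inv φ V) {p : ℕ} (hp : p.Prime) (hVp : IsPGroup p V) {g : G} (hg : g ∈ N)
    (hx : ∀ f ∈ F, g⁻¹ * φ f g ∈ V) : g ∈ V := by
  haveI := Fact.mk hp
  obtain ⟨P, Q, hPn, hQn, hPF, hQF, hP, hQ, -, hPQ⟩ := exists_parts F hF p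
  obtain ⟨v, hv, hgv⟩ := P11.cover hV (h1Zero_of_coprime _ (coprime_of_pgroup hVp hQ)) (g := g)
    fun b hb => hx b (hQF hb)
  have h2 : g * v = 1 := by
    refine h1 _ (mul_mem hg (hVN hv)) fun f hf => ?_
    have h3 : (g * v)⁻¹ * φ f (g * v) ∈ V := by
      rw [map_mul, mul_inv_rev, mul_assoc, ← mul_assoc g⁻¹]
      exact mul_mem (inv_mem hv) (mul_mem (hx f hf) (hV _ _ hv))
    have h4 := fix_part (H9.restrictAut φ V hV) hVp hP hPQ
      (fun x hx => Subtype.ext (h1 _ (hVN x.2) fun f hf => congrArg Subtype.val (hx f hf)))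
      ⟨_, h3⟩ fun b hb => Subtype.ext (by
        have h5 := H1.mem_fixedSub.mp (inv_fixedSub φ Q f _ (H1.mem_fixedSub.mpr hgv)) b hb
        change φ b ((g * v)⁻¹ * φ f (g * v)) = (g * v)⁻¹ * φ f (g * v)
        rw [map_mul, map_inv, hgv b hb, h5])
    have h5 : (g * v)⁻¹ * φ f (g * v) = 1 := congrArg Subtype.val h4
    exact (inv_mul_eq_one.mp h5).symm
  rw [eq_inv_of_mul_eq_one_left h2]
  exact inv_mem hv

theorem fx_quot [Finite A] [Finite G] [F.Normal] (hF : Group.IsNilpotent F) {V : Subgroup G}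
    [V.Normal] (h1 : ∀ g, (∀ f ∈ F, φ f g = g) → g = 1) [IsMulCommutative V]
    (hV : P11.Inv φ V) {p : ℕ} (hp : p.Prime) (hVp : IsPGroup p V) (x : G ⧸ V)
    (hx : ∀ f ∈ F, quotAct φ V hV f x = x) : x = 1 := by
  obtain ⟨g, rfl⟩ := QuotientGroup.mk_surjective x
  exact (QuotientGroup.eq_one_iff g).2 (fxq hF le_top (fun g _ => h1 g) hV hp hVp (mem_top g)
    fun f hf => QuotientGroup.eq.mp (hx f hf).symm)

theorem cover_ab [Finite A] (hs : SR F H) {V : Subgroup G} [IsMulCommutative V]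
    (hV : P11.Inv φ V) (h1 : ∀ g ∈ V, (∀ f ∈ F, φ f g = g) → g = 1) {g : G}
    (hg : ∀ b ∈ H, g⁻¹ * φ b g ∈ V) : ∃ v ∈ V, ∀ b ∈ H, φ b (g * v) = g * v :=
  P11.cover hV (h1Zero_of_sr _ hs fun x hx =>
    Subtype.ext (h1 _ x.2 fun f hf => congrArg Subtype.val (hx f hf))) hg

theorem card_quot_lt [Finite G] {V : Subgroup G} [V.Normal] (h : V ≠ ⊥) :
    Nat.card (G ⧸ V) < Nat.card G := by
  rw [card_eq_card_quotient_mul_card_subgroup V]
  exact lt_mul_of_one_lt_right Nat.card_pos ((one_lt_card_iff_ne_bot V).mpr h)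

/-- Fixed points of `H` in a quotient are covered. -/
theorem cover_solv [Finite A] [F.Normal] (hF : Group.IsNilpotent F) (hs : SR F H) (n : ℕ) :
    ∀ (G : Type u) [Group G] [Finite G] (φ : A →* MulAut G) (N : Subgroup G) [N.Normal],
      Nat.card G = n → P11.Inv φ N → Group.IsSolvable N →
      (∀ g ∈ N, (∀ f ∈ F, φ f g = g) → g = 1) → ∀ g : G, (∀ b ∈ H, g⁻¹ * φ b g ∈ N) →
      ∃ c : G, (∀ b ∈ H, φ b c = c) ∧ c⁻¹ * g ∈ N := by
  induction n using Nat.strong_induction_on with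
  | _ n ih =>
  intro G _ _ φ N _ hn hN hsol h1 g hg
  by_cases h0 : N = ⊥
  · subst h0
    exact ⟨g, fun b hb => (inv_mul_eq_one.1 (mem_bot.1 (hg b hb))).symm, by simp⟩
  obtain ⟨V, p, hp, hle, hVn, hV, hV1, hc, he, -⟩ := exists_min hN hsol h0
  obtain ⟨c, c1, c2⟩ := ih _ (hn ▸ card_quot_lt hV1) (G ⧸ V) (quotAct φ V hV)
    (N.map (QuotientGroup.mk' V)) rfl
    (by rintro a _ ⟨x, hx, rfl⟩; exact ⟨φ a x, hN a x hx, rfl⟩)
    (Group.isSolvable_of_surjective ((QuotientGroup.mk' V).subgroupMap_surjective N))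
    (by
      rintro _ ⟨x, hx, rfl⟩ k
      exact (QuotientGroup.eq_one_iff x).2 (fxq hF hle h1 hV hp (pg_of_pow he) hx
        fun f hf => QuotientGroup.eq.mp (k f hf).symm))
    g fun b hb => ⟨_, hg b hb, rfl⟩
  obtain ⟨c, rfl⟩ := QuotientGroup.mk_surjective c
  obtain ⟨v, hv, e⟩ := cover_ab hs hV (fun x hx => h1 x (hle hx)) (g := c)
    fun b hb => QuotientGroup.eq.mp (c1 b hb).symm
  obtain ⟨x, hx, e2⟩ := c2
  have e3 : x⁻¹ * (c⁻¹ * g) ∈ V := QuotientGroup.eq.mp e2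
  refine ⟨c * v, e, ?_⟩
  rw [mul_inv_rev, mul_assoc]
  exact mul_mem (inv_mem (hle hv)) ((mul_mem_cancel_left (inv_mem hx)).1 (hle e3))

theorem map_fixedSub [Finite A] (hs : SR F H) {V : Subgroup G} [V.Normal] [IsMulCommutative V]
    (hV : P11.Inv φ V) (h1 : ∀ g, (∀ f ∈ F, φ f g = g) → g = 1) :
    (fixedSub φ H).map (QuotientGroup.mk' V) = fixedSub (quotAct φ V hV) H := by
  ext y
  obtain ⟨g, rfl⟩ := QuotientGroup.mk'_surjective V y
  constructor
  · rintro ⟨u, hu, h⟩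
    rw [← h, mem_fixedSub]
    intro b hb
    exact congrArg QuotientGroup.mk (mem_fixedSub.1 hu b hb)
  · intro h
    obtain ⟨n, hn, h1⟩ := cover_ab hs hV (fun g _ => h1 g) (g := g)
      fun b hb => QuotientGroup.eq.mp (mem_fixedSub.1 h b hb).symm
    exact ⟨g * n, mem_fixedSub.2 h1, by simp [QuotientGroup.mk_mul_of_mem _ hn]⟩

/-- The order formula. -/
theorem card_solv [Finite A] [F.Normal] (hF : Group.IsNilpotent F) (hs : SR F H) (n : ℕ) :
    ∀ (G : Type u) [Group G] [Finite G] (φ : A →* MulAut G), Nat.card G = n →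
      Group.IsSolvable G → (∀ g, (∀ f ∈ F, φ f g = g) → g = 1) →
      Nat.card G = Nat.card (fixedSub φ H) ^ Nat.card H := by
  induction n using Nat.strong_induction_on with
  | _ n ih =>
  intro G _ _ φ hn hsol h1
  rcases subsingleton_or_nontrivial G with h0 | h0
  · rw [Nat.card_of_subsingleton (1 : G), Nat.card_of_subsingleton (1 : fixedSub φ H), one_pow]
  obtain ⟨V, p, hp, -, hVn, hV, hV1, hc, he, hm⟩ := exists_min (inv_top φ) inferInstance top_ne_bot
  by_cases e : V = ⊤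
  · subst e
    letI : CommGroup G := { (inferInstance : Group G) with
      mul_comm := fun a b => congrArg Subtype.val (hc.1.1 ⟨a, trivial⟩ ⟨b, trivial⟩) }
    exact card_irr φ hp (fun v => he v trivial) hF hs h1 fun W hW =>
      or_iff_not_imp_left.2 fun k => hm W le_top inferInstance hW k
  have a1 := ih _ (hn ▸ card_quot_lt hV1) (G ⧸ V) (quotAct φ V hV) rfl inferInstance
    (fx_quot hF h1 hV hp (pg_of_pow he))
  have a2 := ih _ (hn ▸ lt_of_le_of_ne (card_le_card_group V)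
    fun k => e ((card_eq_iff_eq_top V).mp k)) V (H9.restrictAut φ V hV) rfl inferInstance
    fun x hx => Subtype.ext (h1 _ fun f hf => congrArg Subtype.val (hx f hf))
  rw [H6.card_fixedSub_restrict φ V hV H] at a2
  rw [card_eq_card_quotient_mul_card_subgroup V, a1, a2, ← mul_pow,
    ← card_inf_mul_relIndex V (fixedSub φ H), ← map_fixedSub hs hV h1, ← relIndex_ker,
    QuotientGroup.ker_mk', mul_comm]

/-- Generation by the conjugates of `C_G(H)`. -/
theorem gen_solv [Finite A] [F.Normal] (hF : Group.IsNilpotent F) (hs : SR F H) (n : ℕ) :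
    ∀ (G : Type u) [Group G] [Finite G] (φ : A →* MulAut G), Nat.card G = n →
      Group.IsSolvable G → (∀ g, (∀ f ∈ F, φ f g = g) → g = 1) →
      closure {x : G | ∃ f ∈ F, ∃ c : G, (∀ h ∈ H, φ h c = c) ∧ x = φ f c} = ⊤ := by
  induction n using Nat.strong_induction_on with
  | _ n ih =>
  intro G _ _ φ hn hsol h1
  rcases subsingleton_or_nontrivial G with h0 | h0
  · exact Subsingleton.elim _ _
  obtain ⟨V, p, hp, -, hVn, hV, hV1, hc, he, hm⟩ := exists_min (inv_top φ) inferInstance top_ne_bot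
  haveI := Fact.mk hp
  have a1 := ih _ (hn ▸ card_quot_lt hV1) (G ⧸ V) (quotAct φ V hV) rfl inferInstance
    (fx_quot hF h1 hV hp (pg_of_pow he))
  set K := closure {x : G | ∃ f ∈ F, ∃ c : G, (∀ h ∈ H, φ h c = c) ∧ x = φ f c} with hK
  have a2 : V ≤ K := by
    obtain ⟨P, Q, hPn, hQn, hPF, hQF, hP, hQ, -, hPQ⟩ := exists_parts F hF p
    letI := Fintype.ofFinite Q
    intro v hv
    have h2 := fix_part (H9.restrictAut φ V hV) (pg_of_pow he) hP hPQ
      fun x hx => Subtype.ext (h1 _ fun f hf => congrArg Subtype.val (hx f hf))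
    have h3 := prod_conj_nm (H9.restrictAut φ V hV) (hs.mono hQF le_rfl
      fun x _ f hf => hQn.conj_mem f hf x) (W := ⊤) (fun _ _ _ _ => trivial)
      (fun _ _ _ _ => trivial) (fun w _ => h2 w) (mem_top ⟨v, hv⟩)
    refine mem_of_pow_mem_coprime (coprime_of_pgroup (pg_of_pow he) hQ) (K := K.subgroupOf V)
      (x := ⟨v, hv⟩) ?_
    rw [← h3]
    exact Subgroup.prod_mem _ fun f _ => subset_closure ⟨f, hQF f.2, _,
      fun b hb => congrArg Subtype.val (nm_fix (H9.restrictAut φ V hV) hb _), rfl⟩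
  have a3 : K.map (QuotientGroup.mk' V) = ⊤ := by
    rw [eq_top_iff, ← a1, closure_le]
    rintro _ ⟨f, hf, c, hc, rfl⟩
    obtain ⟨d, hd, e⟩ := (map_fixedSub hs hV h1).ge (mem_fixedSub.2 hc)
    exact ⟨φ f d, subset_closure ⟨f, hf, d, mem_fixedSub.1 hd, rfl⟩, e ▸ rfl⟩
  have a4 := congrArg (comap (QuotientGroup.mk' V)) a3
  rwa [comap_map_eq, QuotientGroup.ker_mk', sup_eq_left.2 a2, comap_top] at a4

section Sylow

variable {p : ℕ} [Fact p.Prime]

theorem inv_iff_smul [Finite G] (P : Sylow p G) : P11.Inv φ P ↔ ∀ a, φ a • P = P :=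
  ⟨fun h a => Sylow.ext (le_antisymm (by rintro _ ⟨x, hx, rfl⟩; exact h a x hx)
    fun x hx => ⟨φ a⁻¹ x, h _ x hx, by simp⟩), fun h a x hx => by
      rw [← h a]; exact ⟨x, hx, rfl⟩⟩

theorem exists_smul_of_map [Finite G] {V : Subgroup G} [V.Normal] {P R : Sylow p G}
    (h : P.mapSurjective (QuotientGroup.mk'_surjective V) =
      R.mapSurjective (QuotientGroup.mk'_surjective V)) : ∃ v ∈ V, v • P = R := by
  have h1 : (R : Subgroup G) ≤ V ⊔ P := by
    have := congrArg (fun S : Sylow p (G ⧸ V) => comap (QuotientGroup.mk' V) S) h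
    simp only [Sylow.coe_mapSurjective, comap_map_eq, QuotientGroup.ker_mk'] at this
    rw [sup_comm, this]
    exact le_sup_left
  obtain ⟨k, hk⟩ := MulAction.exists_smul_eq (V ⊔ P : Subgroup G) (P.subtype le_sup_right)
    (R.subtype h1)
  rw [Sylow.smul_subtype] at hk
  have e := Sylow.subtype_injective hk
  have hk2 : (k : G) ∈ ((V ⊔ P : Subgroup G) : Set G) := k.2
  rw [normal_mul] at hk2
  obtain ⟨v, hv, x, hx, e2⟩ := hk2
  refine ⟨v, hv, ?_⟩
  rw [← e, Subgroup.smul_def, ← show v * x = k from e2, mul_smul,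
    Sylow.smul_eq_iff_mem_normalizer.2 (le_normalizer hx)]

theorem map_smul_syl [Finite G] {V : Subgroup G} [V.Normal] (hV : P11.Inv φ V) (P : Sylow p G)
    (a : A) : (φ a • P).mapSurjective (QuotientGroup.mk'_surjective V) =
      quotAct φ V hV a • P.mapSurjective (QuotientGroup.mk'_surjective V) := by
  refine Sylow.ext (le_antisymm ?_ ?_)
  · rintro _ ⟨_, ⟨x, hx, rfl⟩, rfl⟩
    exact ⟨_, ⟨x, hx, rfl⟩, rfl⟩
  · rintro _ ⟨_, ⟨x, hx, rfl⟩, rfl⟩
    exact ⟨_, ⟨x, hx, rfl⟩, rfl⟩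

theorem map_smul_mem [Finite G] {V : Subgroup G} [V.Normal] (P : Sylow p G) {v : G} (hv : v ∈ V) :
    (v • P).mapSurjective (QuotientGroup.mk'_surjective V) =
      P.mapSurjective (QuotientGroup.mk'_surjective V) := by
  rw [Sylow.smul_def, ← MonoidHom.id_apply (MulAut G) (MulAut.conj v)]
  have hV : P11.Inv MulAut.conj V := normal_iff_inv.1 inferInstance
  have := map_smul_syl hV P v
  rw [(quotAct_eq_one_iff _ V hV v).2 fun x => by
    simpa [mul_assoc] using mul_mem hv (Normal.conj_mem inferInstance _ (inv_mem hv) x),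
    one_smul] at this
  exact this

/-- The unique invariant Sylow subgroup. -/
theorem syl_solv [Finite A] [F.Normal] (hF : Group.IsNilpotent F) (n : ℕ) :
    ∀ (G : Type u) [Group G] [Finite G] (φ : A →* MulAut G), Nat.card G = n →
      Group.IsSolvable G → (∀ g, (∀ f ∈ F, φ f g = g) → g = 1) →
      ∃! P : Sylow p G, ∀ a, φ a • P = P := by
  induction n using Nat.strong_induction_on with
  | _ n ih =>
  intro G _ _ φ hn hsol h1
  rcases subsingleton_or_nontrivial G with h0 | h0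
  · exact ⟨default, fun a => Sylow.ext (Subsingleton.elim _ _),
      fun _ _ => Sylow.ext (Subsingleton.elim _ _)⟩
  obtain ⟨V, q, hq, -, hVn, hV, hV1, hc, he, hm⟩ := exists_min (inv_top φ) inferInstance top_ne_bot
  obtain ⟨S, s1, s2⟩ := ih _ (hn ▸ card_quot_lt hV1) (G ⧸ V) (quotAct φ V hV) rfl inferInstance
    (fx_quot hF h1 hV hq (pg_of_pow he))
  haveI := Fact.mk hq
  obtain ⟨P0, Q, hPn, hQn, hPF, hQF, hP, hQ, -, hPQ⟩ := exists_parts F hF q
  have h2 := fix_part (H9.restrictAut φ V hV) (pg_of_pow he) hP hPQ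
    fun x hx => Subtype.ext (h1 _ fun f hf => congrArg Subtype.val (hx f hf))
  letI : MulAction (G ⋊[φ] A) (Sylow p G) := MulAction.compHom _
    (SemidirectProduct.lift MulAut.conj φ fun a => by ext; simp [mul_assoc])
  have e1 : ∀ (g : G) (P : Sylow p G), (SemidirectProduct.inl g : G ⋊[φ] A) • P = g • P :=
    fun g P => by rw [MulAction.compHom_smul_def, SemidirectProduct.lift_inl]; rfl
  have e2 : ∀ (a : A) (P : Sylow p G), (SemidirectProduct.inr a : G ⋊[φ] A) • P = φ a • P :=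
    fun a P => by rw [MulAction.compHom_smul_def, SemidirectProduct.lift_inr]
  have n1 : sdR φ Q ≤ normalizer (sdL φ V : Set (G ⋊[φ] A)) :=
    sdR_le_normalizer_iff.2 fun b _ => hV b
  have n2 : (Nat.card (sdR φ Q)).Coprime (Nat.card (sdL φ V)) := by
    rw [card_sdR, card_sdL]; exact (coprime_of_pgroup (pg_of_pow he) hQ).symm
  have n3 : Group.IsSolvable (sdR φ Q) ∨ Group.IsSolvable (sdL φ V) :=
    Or.inr (isSolvable_of_le (sdL_le_sdL.2 le_top) (isSolvable_sdL_top hsol))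
  have un : ∀ P R : Sylow p G, (∀ a ∈ Q, φ a • P = P) → (∀ a ∈ Q, φ a • R = R) →
      P.mapSurjective (QuotientGroup.mk'_surjective V) =
        R.mapSurjective (QuotientGroup.mk'_surjective V) → P = R := fun P R hP hR e => by
    obtain ⟨v, hv, rfl⟩ := exists_smul_of_map e
    obtain ⟨_, ⟨⟨c, c1, rfl⟩, c2⟩, c3⟩ := glauberman_conj n1 n2 n3 P
      (by rintro _ ⟨a, ha, rfl⟩; rw [e2, hP a ha]) (inl_mem_sdL.2 hv)
      (by rintro _ ⟨a, ha, rfl⟩; rw [e1, e2, hR a ha])
    have c4 : c = 1 := congrArg Subtype.val (h2 ⟨c, c1⟩ fun f hf =>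
      Subtype.ext (mem_fixedSub.1 (inl_mem_centralizer_sdR.1 c2) f hf))
    rw [c4, map_one, one_smul, e1] at c3
    exact c3
  obtain ⟨R, rfl⟩ := Sylow.mapSurjective_surjective (QuotientGroup.mk'_surjective V) p S
  obtain ⟨_, ⟨v, hv, rfl⟩, hR⟩ := glauberman_exists_fixed n1 n2 n3 R (by
    rintro _ ⟨a, ha, rfl⟩
    obtain ⟨v, hv, e⟩ := exists_smul_of_map ((map_smul_syl hV R a).trans (s1 a)).symm
    exact ⟨_, inl_mem_sdL.2 hv, by rw [e1, e2, e]⟩)
  have hR' : ∀ a ∈ Q, φ a • v • R = v • R := fun a ha => by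
    have := hR _ (inr_mem_sdR.2 ha)
    rwa [e1, e2] at this
  refine ⟨v • R, fun a => un _ _ (fun b hb => ?_) hR' ?_, fun P hP => un _ _ (fun a _ => hP a) hR' ?_⟩
  · rw [← mul_smul, ← map_mul, show b * a = a * (a⁻¹ * b * a⁻¹⁻¹) by group, map_mul, mul_smul,
      hR' _ (hQn.conj_mem b hb a⁻¹)]
  · rw [map_smul_syl hV, map_smul_mem R hv, s1]
  · rw [map_smul_mem R hv]
    exact s2 _ fun a => by rw [← map_smul_syl hV, hP a]

end Sylow

end Cfsg.Agent.P24
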