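/-
P24: Frobenius groups of automorphisms with fixed point free kernel (given `FpfStmt`).
-/
import Cfsg.Agent.P24.Fr1
import Cfsg.Agent.P11.Main
import Cfsg.Agent.H5.Kegel

set_option autoImplicit false

namespace Cfsg.Agent.P24

universe u

variable {G : Type u} {A : Type*} [Group G] [Finite G] [Group A] [Finite A]
  [MulDistribMulAction A G] {Fk Hc : Subgroup A} [Fk.Normal]

omit [Finite A] in
theorem sr_of_frob (hHc : Cfsg.IsFrobeniusComplement Hc)
    (hker : Cfsg.frobeniusKernel Hc = (Fk : Set A)) : P11.SR Fk Hc :=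
  ⟨fun h _ f hf => Subgroup.Normal.conj_mem inferInstance f hf h, fun h hh h1 f hf hc =>
    H9.frob_eq_one_of_commute hHc hh h1 ((H9.frob_kernel_mem_iff hker).1 hf) hc⟩

theorem s4119 (fpf : FpfStmt.{u}) (hHc : Cfsg.IsFrobeniusComplement Hc)
    (hker : Cfsg.frobeniusKernel Hc = (Fk : Set A))
    (hCF : ∀ g : G, (∀ f ∈ Fk, f • g = g) → g = 1) :
    Nat.card G = Nat.card {g : G | ∀ h ∈ Hc, h • g = g} ^ Nat.card Hc :=
  have hF := H5.isNilpotent_frobeniusKernel hHc hker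
  card_solv hF (sr_of_frob hHc hker) _ G (MulDistribMulAction.toMulAut A G) rfl
    (fpf.solv (MulDistribMulAction.toMulAut A G) hF hCF) hCF

theorem s4121 (fpf : FpfStmt.{u}) (hHc : Cfsg.IsFrobeniusComplement Hc)
    (hker : Cfsg.frobeniusKernel Hc = (Fk : Set A)) (N : Subgroup G) [N.Normal]
    (hNA : ∀ (a : A) (n : G), n ∈ N → a • n ∈ N)
    (hCNF : ∀ n ∈ N, (∀ f ∈ Fk, f • n = n) → n = 1) (g : G) (hg : ∀ h ∈ Hc, g⁻¹ * h • g ∈ N) :
    ∃ c : G, (∀ h ∈ Hc, h • c = c) ∧ c⁻¹ * g ∈ N :=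
  have hF := H5.isNilpotent_frobeniusKernel hHc hker
  cover_solv hF (sr_of_frob hHc hker) _ G (MulDistribMulAction.toMulAut A G) N rfl hNA
    (fpf.solv (H9.restrictAut (MulDistribMulAction.toMulAut A G) N hNA) hF fun x hx =>
      Subtype.ext (hCNF _ x.2 fun f hf => congrArg Subtype.val (hx f hf))) hCNF g hg

theorem s4122 (fpf : FpfStmt.{u}) (hHc : Cfsg.IsFrobeniusComplement Hc)
    (hker : Cfsg.frobeniusKernel Hc = (Fk : Set A))
    (hCF : ∀ g : G, (∀ f ∈ Fk, f • g = g) → g = 1) :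
    Subgroup.closure {x : G | ∃ f ∈ Fk, ∃ c : G, (∀ h ∈ Hc, h • c = c) ∧ x = f • c} = ⊤ :=
  have hF := H5.isNilpotent_frobeniusKernel hHc hker
  gen_solv hF (sr_of_frob hHc hker) _ G (MulDistribMulAction.toMulAut A G) rfl
    (fpf.solv (MulDistribMulAction.toMulAut A G) hF hCF) hCF

theorem s4123 (fpf : FpfStmt.{u}) (hHc : Cfsg.IsFrobeniusComplement Hc)
    (hker : Cfsg.frobeniusKernel Hc = (Fk : Set A))
    (hCF : ∀ g : G, (∀ f ∈ Fk, f • g = g) → g = 1) (p : ℕ) [Fact p.Prime] :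
    ∃! P : Sylow p G, ∀ (a : A) (x : G), x ∈ (P : Subgroup G) → a • x ∈ (P : Subgroup G) := by
  have hF := H5.isNilpotent_frobeniusKernel hHc hker
  obtain ⟨P, h1, h2⟩ := syl_solv (p := p) hF _ G (MulDistribMulAction.toMulAut A G) rfl
    (fpf.solv (MulDistribMulAction.toMulAut A G) hF hCF) hCF
  exact ⟨P, (inv_iff_smul P).2 h1, fun R hR => h2 R ((inv_iff_smul R).1 hR)⟩

end Cfsg.Agent.P24
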