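/-
P24: cosets contained in a conjugacy class (given `FpfStmt`).
-/
import Cfsg.Agent.P24.Defs
import Cfsg.Agent.H6.CaminaPair
import Cfsg.Agent.H8.CentAux

set_option autoImplicit false
set_option linter.style.haveILetI false

open Subgroup
open scoped commutatorElement Pointwise IsMulCommutative

namespace Cfsg.Agent.P24

universe u

variable {G : Type u} [Group G] [Finite G] {N : Subgroup G} [hN : N.Normal] {g : G} {p k : ℕ}
  [hp : Fact p.Prime]

theorem cam_central (hg : orderOf g = p ^ k) (hc : ∀ x, g⁻¹ * (x * g * x⁻¹) ∈ N)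
    (h : ∀ n ∈ N, ∃ x, x * g * x⁻¹ = g * n) : HasNormalPComplement p N := by
  obtain ⟨P, hP⟩ := (IsPGroup.of_card ((Nat.card_zpowers g).trans hg)).exists_le_sylow
  have hgP : g ∈ (P : Subgroup G) := hP (mem_zpowers g)
  have hsub : {y : G | ∃ u ∈ (P : Subgroup G), u * g * u⁻¹ = y} ⊆
      (fun r => g * r) '' (((P : Subgroup G) ⊓ N : Subgroup G) : Set G) := by
    rintro _ ⟨u, hu, rfl⟩
    exact ⟨g⁻¹ * (u * g * u⁻¹), mem_inf.2
      ⟨mul_mem (inv_mem hgP) (mul_mem (mul_mem hu hgP) (inv_mem hu)), hc u⟩, by simp⟩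
  have h1 := (S4142.aux N g).1 h
  have h2 : Nat.card (centralizer ({g} : Set G) ⊓ (P : Subgroup G) : Subgroup G) ∣
      N.relIndex P := by
    obtain ⟨k, hk⟩ := IsPGroup.iff_card.1
      (P.isPGroup'.to_le (inf_le_right (a := centralizer ({g} : Set G))))
    have h3 : p ^ k ∣ N.index := by
      rw [← hk]
      exact (card_dvd_of_le inf_le_left).trans (h1 ▸ card_subgroup_dvd_card _)
    rw [← relIndex_mul_index (le_sup_right : N ≤ (P : Subgroup G) ⊔ N), relIndex_sup_right] at h3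
    rw [hk]
    exact Nat.Coprime.dvd_of_dvd_mul_right (((hp.out.coprime_iff_not_dvd).2 fun h' =>
      P.not_dvd_index (h'.trans (index_dvd_of_le le_sup_left))).pow_left k) h3
  have h4 := Set.eq_of_subset_of_ncard_le hsub (by
    rw [Set.ncard_image_of_injective _ (mul_right_injective g), H6.ncard_conj_orbit]
    have e1 := H1.card_inf_mul_relIndex (centralizer ({g} : Set G)) (P : Subgroup G)
    have e2 := H1.card_inf_mul_relIndex N (P : Subgroup G)
    have e3 := Nat.le_of_dvd (Nat.pos_of_ne_zero (L.relIndex_ne_zero _ _)) h2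
    rw [← Nat.card_coe_set_eq, inf_comm]
    refine Nat.le_of_mul_le_mul_right ?_ (Nat.pos_of_ne_zero (L.relIndex_ne_zero N P))
    refine e2.le.trans ?_
    rw [← e1, mul_comm]
    exact Nat.mul_le_mul_left _ e3)
  refine H8.hasNPC_of_normal_of_le_frattini P N fun r hr => ?_
  obtain ⟨u, hu, hur⟩ : g * r ∈ {y : G | ∃ u ∈ (P : Subgroup G), u * g * u⁻¹ = y} :=
    h4 ▸ ⟨r, ⟨r.2, hr⟩, rfl⟩
  have := H3.commutatorElement_mem_frattini P.isPGroup' (⟨g, hgP⟩⁻¹) ⟨u, hu⟩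
  convert this using 1
  apply Subtype.ext
  change (r : G) = g⁻¹ * u * g⁻¹⁻¹ * u⁻¹
  rw [inv_inv, mul_assoc, mul_assoc, ← mul_assoc u, hur, inv_mul_cancel_left]

theorem cam_npc (hg : orderOf g = p ^ k) (h : ∀ n ∈ N, ∃ x, x * g * x⁻¹ = g * n) :
    HasNormalPComplement p N := by
  set Y := (centralizer ({(g : G ⧸ N)} : Set (G ⧸ N))).comap (QuotientGroup.mk' N) with hY
  have hmem : ∀ x, x ∈ Y ↔ g⁻¹ * (x * g * x⁻¹) ∈ N := fun x => by
    rw [hY, mem_comap, mem_centralizer_singleton_iff, QuotientGroup.mk'_apply,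
      ← QuotientGroup.eq, QuotientGroup.mk_mul, QuotientGroup.mk_mul, QuotientGroup.mk_inv,
      eq_mul_inv_iff_mul_eq, eq_comm]
  have hNY : N ≤ Y := (QuotientGroup.ker_mk' N).ge.trans (ker_le_comap _ _)
  refine H8.hasNPC_of_mulEquiv (cam_central (N := N.subgroupOf Y)
    (g := ⟨g, (hmem g).2 (by simp)⟩) ((orderOf_mk _ _).trans hg) (fun x => (hmem x).1 x.2)
    fun n hn => ?_) (subgroupOfEquivOfLe hNY)
  obtain ⟨x, hx⟩ := h n hn
  exact ⟨⟨x, (hmem x).2 (by rw [hx, inv_mul_cancel_left]; exact hn)⟩, Subtype.ext hx⟩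

theorem cam_solv_core (fpf : FpfStmt.{u}) (hg : orderOf g = p ^ k)
    (h : ∀ n ∈ N, ∃ x, x * g * x⁻¹ = g * n) :
    Group.IsSolvable (pPrimeCore p G ⊓ N : Subgroup G) := by
  refine fpf.solv MulAut.conjNormal (F := zpowers g) inferInstance fun x hx => Subtype.ext ?_
  have hc : Commute g x :=
    mul_inv_eq_iff_eq_mul.1 (congrArg Subtype.val (hx g (mem_zpowers g)))
  obtain ⟨y, hy⟩ := h x x.2.2
  have h1 : orderOf (g * x) = orderOf g := by
    rw [← hy]; exact (MulAut.conj y).orderOf_eq g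
  rw [hc.orderOf_mul_eq_mul_orderOf_of_coprime (hg ▸ (hp.out.coprime_iff_not_dvd.2 fun e =>
    L.not_dvd_card_pPrimeCore hp.out (e.trans (orderOf_dvd_natCard _ x.2.1))).pow_left k)] at h1
  exact orderOf_eq_one_iff.1 (Nat.eq_of_mul_eq_mul_left (orderOf_pos g) (h1.trans (mul_one _).symm))

theorem solv_of_core (h : HasNormalPComplement p N)
    (hs : Group.IsSolvable (pPrimeCore p G ⊓ N : Subgroup G)) : Group.IsSolvable N := by
  rw [← L.map_subtype_pPrimeCore hp.out] at hs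
  haveI := H1.isSolvable_of_isPGroup (H8.hasNPC_iff_isPGroup_quotient_pPrimeCore.1 h)
  haveI := Group.isSolvable_of_isSolvable_injective
    (f := ((pPrimeCore p N).equivMapOfInjective _ N.subtype_injective).toMonoidHom)
    (MulEquiv.injective _)
  exact (Group.isSolvable_iff_subgroup_quotient (pPrimeCore p N)).2 ⟨inferInstance, inferInstance⟩

omit hp in
theorem s4141 (fpf : FpfStmt.{u}) (hN2 : N ≠ ⊤)
    (hcam : ∀ g : G, g ∉ N → ∀ n ∈ N, ∃ x : G, x * g * x⁻¹ = g * n) :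
    (Group.IsSolvable (G ⧸ N) → Group.IsSolvable G) ∧ Group.IsSolvable N := by
  obtain ⟨x, -, hx⟩ := SetLike.exists_of_lt (lt_top_iff_ne_top.2 hN2)
  obtain ⟨q, k, y, hq, -, hy, hyN⟩ := H8.exists_primePow_not_mem hx
  haveI := Fact.mk hq
  have := solv_of_core (cam_npc hy (hcam y hyN)) (cam_solv_core fpf hy (hcam y hyN))
  exact ⟨fun h => (Group.isSolvable_iff_subgroup_quotient N).2 ⟨this, h⟩, this⟩

omit hp in
theorem s4012 (fpf : FpfStmt.{u}) (M : Subgroup G) [M.Normal] (hNM : N < M) (hgM : g ∈ M)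
    (hgN : g ∉ N) (hcl : {h : G | IsConj g h} = (M : Set G) \ (N : Set G)) :
    ∃ p : ℕ, p.Prime ∧ (∃ k : ℕ, orderOf g = p ^ k) ∧ Group.IsSolvable M ∧
      ∃ K : Subgroup M, K.Normal ∧ (Nat.card K).Coprime p ∧ ∃ k : ℕ, K.index = p ^ k := by
  have ho : ∀ y ∈ M, y ∉ N → orderOf y = orderOf g := fun y h1 h2 => by
    obtain ⟨c, rfl⟩ := isConj_iff.1 (hcl.ge ⟨h1, h2⟩)
    exact (MulAut.conj c).orderOf_eq g
  obtain ⟨q, k, y, hq, hy1, hy, hyN⟩ := H8.exists_primePow_not_mem hgN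
  haveI := Fact.mk hq
  have hg := (ho y (zpowers_le.2 hgM hy1) hyN).symm.trans hy
  have h : ∀ n ∈ N, ∃ x, x * g * x⁻¹ = g * n := fun n hn =>
    isConj_iff.1 (hcl.ge ⟨mul_mem hgM (hNM.le hn), fun e => hgN ((mul_mem_cancel_right hn).1 e)⟩)
  have hm : ∀ x ∈ M, (orderOf x).Coprime q → x ∈ N := fun x hx hc => by_contra fun e => by
    rw [ho x hx e] at hc
    have := hc.pow_right k
    rw [← hg, Nat.coprime_self, orderOf_eq_one_iff] at this
    exact hgN (this ▸ one_mem N)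
  have h1 : HasNormalPComplement q M := H8.hasNPC_iff_mul_coprime.2 fun a b ha hb => by
    rw [← orderOf_coe] at ha hb ⊢
    have := H8.hasNPC_iff_mul_coprime.1 (cam_npc hg h) ⟨a, hm a a.2 ha⟩ ⟨b, hm b b.2 hb⟩
      (by rwa [orderOf_mk]) (by rwa [orderOf_mk])
    rwa [← orderOf_coe] at this
  haveI := cam_solv_core fpf hg h
  refine ⟨q, hq, ⟨k, hg⟩, solv_of_core h1 (Group.isSolvable_of_isSolvable_injective
    (inclusion_injective (H := pPrimeCore q G ⊓ M) (K := pPrimeCore q G ⊓ N) fun x hx => ⟨hx.1, hm x hx.2 ?_⟩)),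
    H8.hasNPC_iff_exists.1 h1⟩
  exact (hq.coprime_iff_not_dvd.2 fun e =>
    L.not_dvd_card_pPrimeCore hq (e.trans (orderOf_dvd_natCard _ hx.1))).symm

end Cfsg.Agent.P24
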