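import Cfsg.Agent.P22.Main

namespace Cfsg.Agent.P24

universe u

theorem fpfStmt : FpfStmt.{u} := P25.fpf (P22.invN P22.inv)

end Cfsg.Agent.P24
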